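import Groth.Agent.GenFreeBlowLib.Pieces

/-!
# A blow-up making a module free near the generic points of the fibres
-/

set_option autoImplicit false
set_option linter.style.haveILetI false
set_option linter.unusedSectionVars false
set_option backward.isDefEq.respectTransparency false
set_option maxHeartbeats 2000000

universe u

open TensorProduct

noncomputable section

namespace Groth.Agent.GenFreeBlowLib

variable {R S : Type u} [CommRing R] [CommRing S] [Algebra R S]

/-- Near a prime, an invertible product has a generator in each factor. -/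
theorem exists_gen_factor {D : Type u} [CommRing D] {A B : Ideal D} {c : D} (hc : c ∈ nonZeroDivisors D)
    (h : A * B = Ideal.span {c}) (q : Ideal D) [q.IsPrime] :
    ∃ r ∉ q, ∃ x ∈ A, ∀ (T : Type u) [CommRing T] [Algebra D T], IsUnit (algebraMap D T r) →
      algebraMap D T c ∈ nonZeroDivisors T →
        algebraMap D T x ∈ nonZeroDivisors T ∧ ∀ z ∈ A, algebraMap D T x ∣ algebraMap D T z := by
  obtain ⟨r, hr, x, hx, hloc⟩ := BlowCompLib.exists_principal_of_mul hc h q
  obtain ⟨-, hmap⟩ := hloc (Localization.Away r) inferInstance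
  refine ⟨r, hr, x, hx, fun T _ _ hu hcT => ?_⟩
  let φ : Localization.Away r →ₐ[D] T :=
    IsLocalization.Away.liftAlgHom (S := Localization.Away r) (f := Algebra.ofId D T) r hu
  have hdvd : ∀ z ∈ A, algebraMap D T x ∣ algebraMap D T z := fun z hz => by
    have h1 := Ideal.mem_map_of_mem (algebraMap D (Localization.Away r)) hz
    rw [hmap, Ideal.mem_span_singleton] at h1
    simpa only [AlgHom.commutes] using map_dvd φ h1
  refine ⟨?_, hdvd⟩
  obtain ⟨t, ht⟩ := hdvd c (Ideal.mul_le_left (h ▸ Ideal.mem_span_singleton_self c : c ∈ A * B))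
  rw [ht] at hcT
  exact (mul_mem_nonZeroDivisors.1 hcT).1

/-- Near a prime, a generator of an invertible ideal may be taken among given generators. -/
theorem exists_gen_among {D : Type u} [CommRing D] {m : ℕ} (F : Fin m → D) {B : Ideal D} {c : D}
    (hc : c ∈ nonZeroDivisors D) (h : Ideal.span (Set.range F) * B = Ideal.span {c}) (q : Ideal D) [q.IsPrime] :
    ∃ (k : Fin m) (g : D), g ∉ q ∧ ∀ (T : Type u) [CommRing T] [Algebra D T], IsUnit (algebraMap D T g) →
      algebraMap D T c ∈ nonZeroDivisors T →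
        algebraMap D T (F k) ∈ nonZeroDivisors T ∧
          ∀ z ∈ Ideal.span (Set.range F), algebraMap D T (F k) ∣ algebraMap D T z := by
  obtain ⟨r, hr, x, hx, hloc⟩ := exists_gen_factor hc h q
  let L := Localization.Away r
  obtain ⟨hxn, hxd⟩ := hloc L (IsLocalization.Away.algebraMap_isUnit r)
    (IsLocalization.map_nonZeroDivisors_le (Submonoid.powers r) L ⟨c, hc, rfl⟩)
  choose e he using fun k => hxd (F k) (Ideal.subset_span ⟨k, rfl⟩)
  choose w hw using fun k => IsLocalization.surj (Submonoid.powers r) (e k)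
  obtain ⟨u, hu⟩ := (Ideal.mem_span_range_iff_exists_fun).1 hx
  obtain ⟨k, hk⟩ : ∃ k, (w k).1 ∉ q := by
    by_contra hcon
    push Not at hcon
    have h1 : algebraMap D L x * (∑ k, algebraMap D L (u k) * e k) = algebraMap D L x * 1 := by
      conv_rhs => rw [mul_one, ← hu, map_sum]
      rw [Finset.mul_sum]
      exact Finset.sum_congr rfl fun k _ => by rw [map_mul, he]; ring
    have h2 : ∑ k, algebraMap D L (u k) * e k ∈ q.map (algebraMap D L) := sum_mem fun k _ => by
      refine Ideal.mul_mem_left _ _ ?_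
      have h3 : e k * algebraMap D L ((w k).2 : D) ∈ q.map (algebraMap D L) := by
        rw [hw k]; exact Ideal.mem_map_of_mem _ (hcon k)
      exact (Ideal.mul_unit_mem_iff_mem _ (IsLocalization.map_units L (w k).2)).1 h3
    rw [(mul_cancel_left_mem_nonZeroDivisors hxn).1 h1] at h2
    have hd : Disjoint (Submonoid.powers r : Set D) (q : Set D) := by
      rw [Set.disjoint_left]
      rintro _ ⟨j, rfl⟩ hj
      exact hr (Ideal.IsPrime.mem_of_pow_mem ‹_› j hj)
    exact (IsLocalization.isPrime_of_isPrime_disjoint (Submonoid.powers r) L q ‹_› hd).ne_top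
      ((Ideal.eq_top_iff_one _).2 h2)
  refine ⟨k, r * (w k).1, fun hm => (Ideal.IsPrime.mem_or_mem ‹_› hm).elim hr hk, fun T _ _ hT hcT => ?_⟩
  rw [map_mul, IsUnit.mul_iff] at hT
  obtain ⟨hxT, hxTd⟩ := hloc T hT.1 hcT
  let φ : L →ₐ[D] T :=
    IsLocalization.Away.liftAlgHom (S := L) (f := Algebra.ofId D T) r hT.1
  have hFk : algebraMap D T (F k) = algebraMap D T x * φ (e k) := by
    rw [← φ.commutes, he k, map_mul, φ.commutes]
  have hek : IsUnit (φ (e k)) := by
    have h1 := congrArg φ (hw k)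
    rw [map_mul, φ.commutes, φ.commutes] at h1
    exact (IsUnit.mul_iff.1 (h1.symm ▸ hT.2)).1
  refine ⟨hFk.symm ▸ mul_mem hxT hek.mem_nonZeroDivisors, fun z hz => ?_⟩
  rw [hFk, hek.mul_right_dvd]
  exact hxTd z hz

theorem rad_le_of_prime {I J : Ideal R} (h : ∀ p : Ideal R, p.IsPrime → I ≤ p → J ≤ p) : J ≤ I.radical := by
  rw [Ideal.radical_eq_sInf]
  exact le_sInf fun p hp => h p hp.2 hp.1

/-- **A blow-up making a module free near the generic points of all fibres.** -/
theorem exists_ideal [Algebra.FinitePresentation R S] [Module.Flat R S]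
    (hgi : FlatCA.GeomIntegralFibres R S) {M : Type u} [AddCommGroup M] [Module S M] [Module R M]
    [IsScalarTower R S M] [Module.Finite S M] {n : ℕ} (a : Fin n → R)
    (hfp : ∀ i, Module.FinitePresentation (Localization.Away (algebraMap R S (a i)))
      (LocalizedModule (Submonoid.powers (algebraMap R S (a i))) M))
    (hfl : ∀ (p : Ideal R) [p.IsPrime] [(p.map (algebraMap R S)).IsPrime] (i : Fin n), a i ∉ p →
      FlatCA.FlatAt R (p.map (algebraMap R S)) M) :
    ∃ T : Ideal R, T.FG ∧ T.radical = (Ideal.span (Set.range a)).radical ∧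
      ∀ (D : Type u) [CommRing D] [Algebra R D] (c : D), c ∈ nonZeroDivisors D →
        T.map (algebraMap R D) = Ideal.span {c} →
        ∀ (q : Ideal D) [q.IsPrime], ∃ g ∉ q,
          ∀ (D' : Type u) [CommRing D'] [Algebra D D'] [Algebra R D'] [IsScalarTower R D D'] [IsLocalization.Away g D']
            (S' : Type u) [CommRing S'] [Algebra S S'] [Algebra D' S'] [Algebra R S'] [IsScalarTower R S S']
            [IsScalarTower R D' S'] [Algebra.IsPushout R S D' S']
            (M' : Type u) [AddCommGroup M'] [Module S' M'] [Module S M'] [IsScalarTower S S' M']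
            (φ : M →ₗ[S] M'), IsBaseChange S' φ →
            ∀ (q' : Ideal D') [q'.IsPrime],
              ∃ h : S', h ∉ q'.map (algebraMap D' S') ∧
                Module.Free (Localization.Away h) (LocalizedModule (Submonoid.powers h)
                  (M' ⧸ FlatCA.powTorsion S' (algebraMap D' S' (algebraMap D D' c)) M')) ∧
                Module.Finite (Localization.Away h) (LocalizedModule (Submonoid.powers h)
                  (M' ⧸ FlatCA.powTorsion S' (algebraMap D' S' (algebraMap D D' c)) M')) := by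
  classical
  haveI hproj : Module.Projective R S := ContentBlowLib.projective hgi
  have hdom : ∀ (q : Ideal R) [q.IsPrime], IsDomain (q.Fiber S) := fun q _ =>
    PureLib.isDomain_tensor_field hgi q.ResidueField
  have hprime : ∀ (p : Ideal R) [p.IsPrime], (p.map (algebraMap R S)).IsPrime := fun p _ => by
    haveI := hdom p
    exact ContentBlowLib.isPrime_map p
  obtain ⟨s, hs0⟩ := Module.projective_def'.mp hproj
  have hs : ∀ b, Finsupp.linearCombination R id (s b) = b := fun b => LinearMap.congr_fun hs0 b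
  -- a finitely presented cover
  obtain ⟨Mc, _, _, _, _, π, hMc, hπ, hker⟩ := RGBlowLib.exists_fp_cover (R := R) (M := M) a hfp
  haveI := hMc
  have hflc : ∀ (p : Ideal R) [p.IsPrime] [(p.map (algebraMap R S)).IsPrime] (i : Fin n), a i ∉ p →
      FlatCA.FlatAt R (p.map (algebraMap R S)) Mc := by
    intro p _ _ i hi
    let P := p.map (algebraMap R S)
    haveI : P.IsPrime := inferInstanceAs (p.map (algebraMap R S)).IsPrime
    haveI : Module.Flat R (LocalizedModule P.primeCompl M) := hfl p i hi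
    refine Module.Flat.of_linearEquiv ((LinearEquiv.ofBijective (LocalizedModule.map P.primeCompl π)
      ⟨(FibBasisLib.injective_map_iff _ _).2 fun x hx => ?_, LocalizedModule.map_surjective _ _ hπ⟩).restrictScalars R)
    obtain ⟨l, hl⟩ := hker i x hx
    refine ⟨algebraMap R S (a i ^ l), fun hm => hi ?_, by rw [algebraMap_smul, hl]⟩
    haveI := hdom p
    haveI : P.LiesOver p := ContentBlowLib.liesOver_map (S := S) p
    exact Ideal.IsPrime.mem_of_pow_mem ‹p.IsPrime› l ((Ideal.mem_of_liesOver P p _).2 hm)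
  obtain ⟨m, f, rk, hrad, hrk⟩ := exists_pieces s hs hprime a hflc
  -- exponents
  have hC : ∀ k, f k ∈ (GenRankLib.content s (Fitt.ideal S Mc (rk k))).radical := fun k =>
    rad_le_of_prime (J := Ideal.span {f k}) (fun p hp hle => (Ideal.span_singleton_le_iff_mem p).2 (by
      by_contra hf
      haveI := hp
      refine (hrk k p hf).1 fun b hb => ?_
      rw [← hs b, Finsupp.linearCombination_apply, Finsupp.sum]
      refine sum_mem fun x _ => ?_
      rw [Algebra.smul_def]
      exact Ideal.mul_mem_right _ _ (Ideal.mem_map_of_mem _ (hle (Ideal.subset_span ⟨b, hb, x, rfl⟩)))))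
      (Ideal.mem_span_singleton_self _)
  choose N₁ hN₁ using hC
  have hortho : ∀ k l, rk k ≠ rk l → IsNilpotent (f k * f l) := fun k l hne =>
    nilpotent_iff_mem_prime.2 fun p hp => by
      by_contra hm
      haveI := hp
      haveI := hprime p
      exact hne (hasRank_unique (hrk k p fun h => hm (p.mul_mem_right _ h))
        (hrk l p fun h => hm (p.mul_mem_left _ h)))
  choose N₂ hN₂ using hortho
  let N : ℕ := (Finset.univ.sup N₁) + (Finset.univ.sup fun kl : Fin m × Fin m =>
    if h : rk kl.1 ≠ rk kl.2 then N₂ kl.1 kl.2 h else 0) + 1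
  have hN₁' : ∀ k, f k ^ N ∈ GenRankLib.content s (Fitt.ideal S Mc (rk k)) := fun k =>
    by
      obtain ⟨d, hd⟩ : ∃ d, N = N₁ k + d := Nat.exists_eq_add_of_le
        ((Finset.le_sup (f := N₁) (Finset.mem_univ k)).trans (by simp only [N]; omega))
      rw [hd, pow_add]
      exact Ideal.mul_mem_right _ _ (hN₁ k)
  have hN₂' : ∀ k l, rk k ≠ rk l → f k ^ N * f l ^ N = 0 := fun k l hne => by
    rw [← mul_pow]
    refine pow_eq_zero_of_le ?_ (hN₂ k l hne)
    have h1 := Finset.le_sup (f := fun kl : Fin m × Fin m =>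
      if h : rk kl.1 ≠ rk kl.2 then N₂ kl.1 kl.2 h else 0) (Finset.mem_univ (k, l))
    simp only [dif_pos hne] at h1
    simp only [N]
    omega
  let F : Fin m → R := fun k => f k ^ N
  let K : ℕ → Ideal R := fun r => GenRankLib.content s (Fitt.ideal S Mc r) ⊔
    Ideal.span ((fun l => F l) '' {l | rk l ≠ r})
  let T : Ideal R := Ideal.span (Set.range F) * ∏ r ∈ Finset.univ.image rk, K r
  have hKfg : ∀ r, (K r).FG := fun r =>
    Submodule.FG.sup (GenRankLib.content_fg s hs _ (GenRankLib.fitt_fg Mc r))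
      (Submodule.fg_span ((Set.toFinite _).image _))
  have hfK : ∀ r k, f k ∈ (K r).radical := fun r k => by
    by_cases h : rk k = r
    · exact ⟨N, Ideal.mem_sup_left (h ▸ hN₁' k)⟩
    · exact ⟨N, Ideal.mem_sup_right (Ideal.subset_span ⟨k, h, rfl⟩)⟩
  have hTrad : T.radical = (Ideal.span (Set.range a)).radical := by
    rw [← hrad]
    refine le_antisymm ((Ideal.radical_mono Ideal.mul_le_left).trans ?_) ?_
    · rw [Ideal.radical_le_radical_iff, Ideal.span_le]
      rintro _ ⟨k, rfl⟩
      exact Ideal.pow_mem_of_mem (Ideal.span (Set.range f)).radical (Ideal.le_radical (Ideal.subset_span ⟨k, rfl⟩)) N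
        (by simp only [N]; omega)
    · rw [Ideal.radical_le_radical_iff, Ideal.radical_mul]
      refine le_inf (Ideal.span_le.2 ?_) ?_
      · rintro _ ⟨k, rfl⟩
        exact ⟨N, Ideal.subset_span ⟨k, rfl⟩⟩
      · refine Finset.prod_induction K (fun J : Ideal R => Ideal.span (Set.range f) ≤ J.radical)
          (fun _ _ h h' => by rw [Ideal.radical_mul]; exact le_inf h h')
          (by rw [Ideal.one_eq_top, Ideal.radical_top]; exact le_top) fun r _ => Ideal.span_le.2 ?_
        rintro _ ⟨k, rfl⟩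
        exact hfK r k
  refine ⟨T, Submodule.FG.mul (Submodule.fg_span (Set.finite_range F))
    (Finset.prod_induction K (fun J : Ideal R => J.FG) (fun _ _ => Submodule.FG.mul) (show (1 : Ideal R).FG from ⟨{1}, by simp⟩)
      fun r _ => hKfg r), hTrad, ?_⟩
  intro D _ _ c hc hTD q _
  let FD : Fin m → D := fun k => algebraMap R D (F k)
  have hFD : (Ideal.span (Set.range F)).map (algebraMap R D) = Ideal.span (Set.range FD) := by
    rw [Ideal.map_span, ← Set.range_comp]; rfl
  obtain ⟨k, g₁, hg₁, hk⟩ := exists_gen_among FD hc (by rw [← hFD, ← Ideal.map_mul]; exact hTD) q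
  let r := rk k
  have hrmem : r ∈ Finset.univ.image rk := Finset.mem_image_of_mem rk (Finset.mem_univ k)
  obtain ⟨g₂, hg₂, b₀, hb₀, hb⟩ := exists_gen_factor (A := (K r).map (algebraMap R D))
    (B := (Ideal.span (Set.range F) * ∏ r' ∈ (Finset.univ.image rk).erase r, K r').map (algebraMap R D)) hc
    (by rw [← Ideal.map_mul, ← hTD, mul_left_comm, Finset.mul_prod_erase _ _ hrmem]) q
  refine ⟨g₁ * g₂, fun hm => (Ideal.IsPrime.mem_or_mem ‹_› hm).elim hg₁ hg₂, ?_⟩
  intro D' _ _ _ _ _ S' _ _ _ _ _ _ _ M' _ _ _ _ φ hφ q' _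
  have hu := IsLocalization.Away.algebraMap_isUnit (S := D') (g₁ * g₂)
  rw [map_mul, IsUnit.mul_iff] at hu
  let c' := algebraMap D D' c
  have hc' : c' ∈ nonZeroDivisors D' :=
    IsLocalization.map_nonZeroDivisors_le (Submonoid.powers (g₁ * g₂)) D' ⟨c, hc, rfl⟩
  obtain ⟨hFn, hFdvd⟩ := hk D' hu.1 hc'
  obtain ⟨hbn, hbdvd⟩ := hb D' hu.2 hc'
  let x := algebraMap R D' (F k)
  have hx : algebraMap D D' (FD k) = x := (IsScalarTower.algebraMap_apply R D D' _).symm
  rw [hx] at hFn
  let b := algebraMap D D' b₀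
  have hcont : ∀ l, rk l ≠ r → algebraMap R D' (F l) = 0 := fun l hl => by
    refine (mul_left_mem_nonZeroDivisors_eq_zero_iff hFn).1 ?_
    show algebraMap R D' (F k) * algebraMap R D' (F l) = 0
    rw [← map_mul, hN₂' k l (fun h => hl h.symm), map_zero]
  have hKC : ∀ z ∈ K r, ∃ y ∈ GenRankLib.content s (Fitt.ideal S Mc r), algebraMap R D' z = algebraMap R D' y := by
    intro z hz
    obtain ⟨y, hy, w, hw, rfl⟩ := Submodule.mem_sup.1 hz
    refine ⟨y, hy, ?_⟩
    have hle : Ideal.span ((fun l => F l) '' {l | rk l ≠ r}) ≤ RingHom.ker (algebraMap R D') :=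
      Ideal.span_le.2 (by rintro _ ⟨l, hl, rfl⟩; exact hcont l hl)
    have hw' : algebraMap R D' w = 0 := hle hw
    rw [map_add, hw', add_zero]
  have hbC : b ∈ (GenRankLib.content s (Fitt.ideal S Mc r)).map (algebraMap R D') := by
    have h1 : b ∈ ((K r).map (algebraMap R D)).map (algebraMap D D') := Ideal.mem_map_of_mem _ hb₀
    rw [Ideal.map_map, ← IsScalarTower.algebraMap_eq] at h1
    refine (Ideal.map_le_iff_le_comap.2 fun z hz => ?_ : (K r).map (algebraMap R D') ≤ _) h1
    obtain ⟨y, hy, hzy⟩ := hKC z hz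
    rw [Ideal.mem_comap, hzy]
    exact Ideal.mem_map_of_mem _ hy
  have hdiv : ∀ y ∈ GenRankLib.content s (Fitt.ideal S Mc r), b ∣ algebraMap R D' y := fun y hy => by
    rw [IsScalarTower.algebraMap_apply R D D']
    exact hbdvd _ (Ideal.mem_map_of_mem _ (Ideal.mem_sup_left hy))
  have hbx : b ∣ x := hdiv _ (hN₁' k)
  have hxc : x ∣ c' := by
    rw [← hx]
    refine hFdvd c ?_
    rw [← hFD]
    exact Ideal.map_mono Ideal.mul_le_left (hTD.ge (Ideal.mem_span_singleton_self c))
  -- every `a i` power kills the kernel of the cover, so a power of `f k` does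
  have hcf : ∀ y : R, y ∈ (Ideal.span (Set.range a)).radical → ∃ e : ℕ, c' ∣ algebraMap R D' y ^ e := by
    intro y hy
    rw [← hTrad] at hy
    obtain ⟨e, he⟩ := hy
    refine ⟨e, ?_⟩
    have h1 := Ideal.mem_map_of_mem (algebraMap R D) he
    rw [hTD, Ideal.mem_span_singleton] at h1
    rw [← map_pow, IsScalarTower.algebraMap_apply R D D']
    exact map_dvd _ h1
  have hfk : f k ∈ (Ideal.span (Set.range a)).radical := hrad ▸ Ideal.le_radical (Ideal.subset_span ⟨k, rfl⟩)
  haveI : Algebra.IsPushout R D' S S' := Algebra.IsPushout.symm inferInstance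
  haveI : Module.Projective D' S' := Module.Projective.of_equiv (Algebra.IsPushout.equiv R D' S S').toLinearEquiv
  haveI : IsDomain (q'.Fiber S') := PureLib.isDomain_fiber hgi D' S' inferInstance q'
  let P := q'.map (algebraMap D' S')
  haveI hP : P.IsPrime := ContentBlowLib.isPrime_map q'
  let cS : S' := algebraMap D' S' c'
  have hreg : ∀ {d : D'}, d ∈ nonZeroDivisors D' → ∀ z : S', algebraMap D' S' d * z = 0 → z = 0 :=
    fun {d} hd z hz => Module.Flat.isSMulRegular_of_nonZeroDivisors (M := S') hd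
      (by simp only [smul_zero]; rw [Algebra.smul_def]; exact hz)
  let bS : S' := algebraMap D' S' b
  let J' := (Fitt.ideal S Mc r).map (algebraMap S S')
  have hJb : J' ≤ Ideal.span {bS} := by
    have h := (GenRankLib.map_le_map_iff_content (A := R) (B := S) (A' := D') (B' := S') s hs (Ideal.span {b})
      (Fitt.ideal S Mc r)).2 fun y hy => Ideal.mem_span_singleton.2 (hdiv y hy)
    rw [Ideal.map_span, Set.image_singleton] at h
    exact h
  obtain ⟨g, hgJ, hgP⟩ : ∃ g : S', bS * g ∈ J' ∧ g ∉ P := by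
    by_contra hcon
    push Not at hcon
    have h := (GenRankLib.map_le_map_iff_content (A := R) (B := S) (A' := D') (B' := S') s hs (Ideal.span {b} * q')
      (Fitt.ideal S Mc r)).1 fun z hz => by
        obtain ⟨w, hw⟩ := Ideal.mem_span_singleton'.1 (hJb hz)
        rw [Ideal.map_mul, Ideal.map_span, Set.image_singleton, ← hw, mul_comm w]
        exact Ideal.mul_mem_mul (Ideal.mem_span_singleton_self _) (hcon w (by rw [mul_comm, hw]; exact hz))
    obtain ⟨π', hπ', hbπ⟩ := Ideal.mem_span_singleton_mul.1 (Ideal.map_le_iff_le_comap.2 h hbC)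
    have h1 : π' = 1 := (mul_cancel_left_mem_nonZeroDivisors hbn).1 (hbπ.trans (mul_one b).symm)
    exact Ideal.IsPrime.ne_top ‹q'.IsPrime› ((Ideal.eq_top_iff_one _).2 (h1 ▸ hπ'))
  -- the quotient by torsion
  haveI : Module.Finite S' M' := Module.Finite.of_surjective hφ.equiv.toLinearMap hφ.equiv.surjective
  let Tor := FlatCA.powTorsion S' cS M'
  obtain ⟨e₀, he₀⟩ := hcf (f k) hfk
  have hbc : ∀ q₀ : M' ⧸ Tor, bS • q₀ = 0 → q₀ = 0 := by
    intro q₀ hq₀
    obtain ⟨z, rfl⟩ := Submodule.Quotient.mk_surjective Tor q₀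
    obtain ⟨d, hd⟩ : bS ∣ cS := map_dvd _ (hbx.trans hxc)
    have h1 : cS • z ∈ Tor := by
      rw [← Submodule.Quotient.mk_eq_zero Tor, Submodule.Quotient.mk_smul, hd, mul_comm, mul_smul, hq₀, smul_zero]
    rw [RGBlowLib.mem_powTorsion] at h1
    obtain ⟨e, he⟩ := h1
    rw [Submodule.Quotient.mk_eq_zero, RGBlowLib.mem_powTorsion]
    exact ⟨e + 1, by rw [pow_succ, mul_smul]; exact he⟩
  let π₁ : S' ⊗[S] Mc →ₗ[S'] M' ⧸ Tor := Tor.mkQ ∘ₗ hφ.equiv.toLinearMap ∘ₗ π.baseChange S'
  have hπ₁ : Function.Surjective π₁ :=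
    Tor.mkQ_surjective.comp (hφ.equiv.surjective.comp (LinearMap.lTensor_surjective S' hπ))
  have hFit : Fitt.ideal S' (S' ⊗[S] Mc) r = J' := FittLib.ideal_baseChange S' r
  have hnot := ContentBlowLib.not_le_of_colon r π₁ hπ₁ bS g P hgP
    (fun z hz => hreg hbn z hz) (hFit ▸ hJb) (hFit ▸ hgJ) hbc
  have hkerπ₁ : LinearMap.ker π₁ ≤ FlatCA.powTorsion S' cS (S' ⊗[S] Mc) := by
    intro z hz
    have h1 : hφ.equiv (π.baseChange S' z) ∈ Tor := by
      rw [← Submodule.Quotient.mk_eq_zero Tor]; exact hz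
    obtain ⟨e, he⟩ := RGBlowLib.mem_powTorsion.1 h1
    rw [← map_smul, ← map_smul, LinearEquiv.map_eq_zero_iff] at he
    obtain ⟨w, hw⟩ := ((lTensor_exact S' (LinearMap.exact_subtype_ker_map π) hπ) (cS ^ e • z)).1 he
    have hkill : ∀ w : S' ⊗[S] ↥(LinearMap.ker π), ∃ e : ℕ, cS ^ e • (LinearMap.ker π).subtype.lTensor S' w = 0 := by
      intro w
      induction w using TensorProduct.induction_on with
      | zero => exact ⟨0, by simp⟩
      | add u v hu hv =>
        obtain ⟨e₁, he₁⟩ := hu
        obtain ⟨e₂, he₂⟩ := hv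
        refine ⟨e₁ + e₂, ?_⟩
        rw [map_add, smul_add, pow_add, mul_smul, mul_smul, he₂, smul_zero, add_zero, smul_comm, he₁, smul_zero]
      | tmul t y =>
        have hall : f k ∈ Ideal.radical (LinearMap.toSpanSingleton R Mc y.1).ker := by
          refine (Ideal.radical_le_radical_iff.2 (Ideal.span_le.2 ?_)) hfk
          rintro _ ⟨i, rfl⟩
          obtain ⟨l, hl⟩ := hker i y.1 y.2
          exact ⟨l, hl⟩
        obtain ⟨l, hl⟩ := hall
        have hl' : f k ^ l • (y.1 : Mc) = 0 := hl
        have hdvd : algebraMap R D' (f k ^ l) ∣ c' ^ l := by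
          refine (dvd_trans ?_ (pow_dvd_pow_of_dvd hxc l))
          rw [← map_pow]
          exact map_dvd _ (pow_dvd_pow_of_dvd (dvd_pow_self _ (by simp only [N]; omega)) l)
        refine ⟨l, ?_⟩
        obtain ⟨d, hd⟩ := hdvd
        have h0 : algebraMap R S' (f k ^ l) • (t ⊗ₜ[S] (y.1 : Mc)) = 0 := by
          rw [IsScalarTower.algebraMap_apply R S S', algebraMap_smul, ← TensorProduct.tmul_smul,
            algebraMap_smul, hl', TensorProduct.tmul_zero]
        rw [LinearMap.lTensor_tmul, Submodule.subtype_apply, ← map_pow, hd, mul_comm, map_mul, mul_smul,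
          ← IsScalarTower.algebraMap_apply R D' S', h0, smul_zero]
    obtain ⟨e', he'⟩ := hkill w
    rw [hw, smul_smul, ← pow_add] at he'
    exact RGBlowLib.mem_powTorsion.2 ⟨e' + e, he'⟩
  have hbot : ∀ j, j < r → Fitt.ideal S' (M' ⧸ Tor) j = ⊥ := by
    intro j hj
    rw [← FittLib.ideal_eq_of_equiv (π₁.quotKerEquivOfSurjective hπ₁) j]
    refine ContentBlowLib.ideal_quot_eq_bot j cS (hreg hc') _ hkerπ₁ fun y hy => ?_
    rw [FittLib.ideal_baseChange] at hy
    induction hy using Submodule.span_induction with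
    | mem z hz =>
      obtain ⟨z, hz, rfl⟩ := hz
      obtain ⟨l, hl⟩ := ContentBlowLib.exists_pow_smul_eq_zero (f := f k) (y := z) hdom fun p _ hfp =>
        (hrk k p hfp).2 j hj z hz
      refine ⟨l, ?_⟩
      obtain ⟨d, hd⟩ : algebraMap R D' (f k ^ l) ∣ c' ^ l := by
        refine (dvd_trans ?_ (pow_dvd_pow_of_dvd hxc l))
        rw [← map_pow]
        exact map_dvd _ (pow_dvd_pow_of_dvd (dvd_pow_self _ (by simp only [N]; omega)) l)
      rw [← map_pow, hd, mul_comm _ d, map_mul, mul_assoc, ← IsScalarTower.algebraMap_apply R D' S',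
        IsScalarTower.algebraMap_apply R S S', ← map_mul, ← Algebra.smul_def (f k ^ l) z, hl, map_zero, mul_zero]
    | zero => exact ⟨0, mul_zero _⟩
    | add u v _ _ hu hv =>
      obtain ⟨e, he⟩ := hu
      obtain ⟨e', he'⟩ := hv
      refine ⟨e + e', ?_⟩
      rw [mul_add, pow_add, mul_right_comm, he, zero_mul, zero_add, mul_assoc, he', mul_zero]
    | smul t u _ hu =>
      obtain ⟨e, he⟩ := hu
      exact ⟨e, by rw [smul_eq_mul, mul_left_comm, he, mul_zero]⟩
  obtain ⟨h, hh, hfree, -⟩ := ContentBlowLib.exists_free r P hnot hbot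
  exact ⟨h, hh, hfree, Module.Finite.of_isLocalizedModule (Submonoid.powers h)
    (LocalizedModule.mkLinearMap (Submonoid.powers h) _)⟩

end Groth.Agent.GenFreeBlowLib
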