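import Groth.Agent.GenFreeBlowLib.Alg
import Groth.Agent.RGBlowLib.Chart
import Groth.Agent.RGBlowLib.Local
import Groth.Agent.RGBlowLib.Main
import Groth.Agent.GenBCLib.SecLocFree
import Mathlib.AlgebraicGeometry.Geometrically.Integral

/-!
# The strict transform is locally free on an open surjecting onto the base after a blow-up
-/

set_option autoImplicit false
set_option linter.style.haveILetI false
set_option linter.unusedSectionVars false
set_option backward.isDefEq.respectTransparency false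
set_option maxHeartbeats 2000000

universe u

open CategoryTheory CategoryTheory.Limits AlgebraicGeometry TopologicalSpace TensorProduct

noncomputable section

namespace Groth.Agent.GenFreeBlowLib

variable {X S X' S' : Scheme.{u}}

/-- The chart of an affine morphism with geometrically integral fibres has geometrically integral fibres. -/
theorem geomIntegralFibres_appLE (f : X ⟶ S) [IsAffineHom f] [GeometricallyIntegral f] {V : S.Opens}
    (hV : IsAffineOpen V) :
    letI := (f.appLE V (f ⁻¹ᵁ V) le_rfl).hom.toAlgebra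
    FlatCA.GeomIntegralFibres Γ(S, V) Γ(X, f ⁻¹ᵁ V) := by
  letI : Algebra Γ(S, V) Γ(X, f ⁻¹ᵁ V) := (f.appLE V (f ⁻¹ᵁ V) le_rfl).hom.toAlgebra
  have hW : IsAffineOpen (f ⁻¹ᵁ V) := hV.preimage f
  have hpb : IsPullback (Spec.map (f.appLE V (f ⁻¹ᵁ V) le_rfl)) hW.fromSpec hV.fromSpec f :=
    IsOpenImmersion.isPullback _ _ _ _ (hV.SpecMap_appLE_fromSpec f hW le_rfl).symm
      (by rw [hV.opensRange_fromSpec, hW.opensRange_fromSpec])
  exact MorphismProperty.of_isPullback (P := @GeometricallyIntegral) hpb.flip inferInstance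

/-- The flattening ideal of a chart. -/
theorem exists_chart [CompactSpace S] [QuasiSeparatedSpace S] (f : X ⟶ S) [IsAffineHom f]
    [LocallyOfFinitePresentation f] [Flat f] [GeometricallyIntegral f]
    (U : S.Opens) (hU : IsCompact (U : Set S)) (F : X.Modules) [Coh.IsQCoh F] (hft : CohB1.IsFT F)
    (hfpU : CohB1.IsFP ((Scheme.Modules.pullback (f ⁻¹ᵁ U).ι).obj F))
    (hflU : ∀ x : X, f.base x ∈ U → closure ({f.asFiber x} : Set (f.fiber (f.base x))) = Set.univ →
      FlatMod.IsFlatOverAt f F x)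
    {V : S.Opens} (hV : IsAffineOpen V) :
    ∃ 𝓙 : S.IdealSheafData, BlowUp.IsAdmissibleFor U 𝓙 ∧
      (∀ 𝓘 : S.IdealSheafData, BlowUp.IsAdmissibleFor U 𝓘 → ∃ m : ℕ, 𝓙.ideal ⟨V, hV⟩ ^ m ≤ 𝓘.ideal ⟨V, hV⟩) ∧
      (letI := (f.appLE V (f ⁻¹ᵁ V) le_rfl).hom.toAlgebra
      ∀ (D : Type u) [CommRing D] [Algebra Γ(S, V) D] (c : D), c ∈ nonZeroDivisors D →
        (𝓙.ideal ⟨V, hV⟩).map (algebraMap Γ(S, V) D) = Ideal.span {c} →
        ∀ (q : Ideal D) [q.IsPrime], ∃ g ∉ q,
          ∀ (D' : Type u) [CommRing D'] [Algebra D D'] [Algebra Γ(S, V) D'] [IsScalarTower Γ(S, V) D D']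
            [IsLocalization.Away g D']
            (B' : Type u) [CommRing B'] [Algebra Γ(X, f ⁻¹ᵁ V) B'] [Algebra D' B'] [Algebra Γ(S, V) B']
            [IsScalarTower Γ(S, V) Γ(X, f ⁻¹ᵁ V) B'] [IsScalarTower Γ(S, V) D' B']
            [Algebra.IsPushout Γ(S, V) Γ(X, f ⁻¹ᵁ V) D' B']
            (M' : Type u) [AddCommGroup M'] [Module B' M'] [Module Γ(X, f ⁻¹ᵁ V) M']
            [IsScalarTower Γ(X, f ⁻¹ᵁ V) B' M']
            (φ : Γ(F, f ⁻¹ᵁ V) →ₗ[Γ(X, f ⁻¹ᵁ V)] M'), IsBaseChange B' φ →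
            ∀ (q' : Ideal D') [q'.IsPrime],
              ∃ h : B', h ∉ q'.map (algebraMap D' B') ∧
                Module.Free (Localization.Away h) (LocalizedModule (Submonoid.powers h)
                  (M' ⧸ FlatCA.powTorsion B' (algebraMap D' B' (algebraMap D D' c)) M')) ∧
                Module.Finite (Localization.Away h) (LocalizedModule (Submonoid.powers h)
                  (M' ⧸ FlatCA.powTorsion B' (algebraMap D' B' (algebraMap D D' c)) M'))) := by
  classical
  let W : X.Opens := f ⁻¹ᵁ V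
  have hW : IsAffineOpen W := hV.preimage f
  letI : Algebra Γ(S, V) Γ(X, W) := (f.appLE V W le_rfl).hom.toAlgebra
  letI : Module Γ(S, V) Γ(F, W) := Module.compHom Γ(F, W) (f.appLE V W le_rfl).hom
  haveI : IsScalarTower Γ(S, V) Γ(X, W) Γ(F, W) := .of_algebraMap_smul fun _ _ => rfl
  haveI : Algebra.FinitePresentation Γ(S, V) Γ(X, W) := f.finitePresentation_appLE hV hW le_rfl
  haveI : Module.Flat Γ(S, V) Γ(X, W) := f.flat_appLE hV hW le_rfl
  haveI : Module.Finite Γ(X, W) Γ(F, W) := QCohLib.finite_sections F hft hW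
  have hgi : FlatCA.GeomIntegralFibres Γ(S, V) Γ(X, W) := geomIntegralFibres_appLE f hV
  obtain ⟨𝓙, h1, h2, h3⟩ := RGBlowLib.exists_spread U hU hV
    (Q := fun T => ∀ (D : Type u) [CommRing D] [Algebra Γ(S, V) D] (c : D),
      c ∈ nonZeroDivisors D → T.map (algebraMap Γ(S, V) D) = Ideal.span {c} →
        ∀ (q : Ideal D) [q.IsPrime], ∃ g ∉ q,
          ∀ (D' : Type u) [CommRing D'] [Algebra D D'] [Algebra Γ(S, V) D'] [IsScalarTower Γ(S, V) D D']
            [IsLocalization.Away g D']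
            (B' : Type u) [CommRing B'] [Algebra Γ(X, W) B'] [Algebra D' B'] [Algebra Γ(S, V) B']
            [IsScalarTower Γ(S, V) Γ(X, W) B'] [IsScalarTower Γ(S, V) D' B']
            [Algebra.IsPushout Γ(S, V) Γ(X, W) D' B']
            (M' : Type u) [AddCommGroup M'] [Module B' M'] [Module Γ(X, W) M'] [IsScalarTower Γ(X, W) B' M']
            (φ : Γ(F, W) →ₗ[Γ(X, W)] M'), IsBaseChange B' φ →
            ∀ (q' : Ideal D') [q'.IsPrime],
              ∃ h : B', h ∉ q'.map (algebraMap D' B') ∧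
                Module.Free (Localization.Away h) (LocalizedModule (Submonoid.powers h)
                  (M' ⧸ FlatCA.powTorsion B' (algebraMap D' B' (algebraMap D D' c)) M')) ∧
                Module.Finite (Localization.Away h) (LocalizedModule (Submonoid.powers h)
                  (M' ⧸ FlatCA.powTorsion B' (algebraMap D' B' (algebraMap D D' c)) M')))
    fun n a haU => by
      -- finite presentation over `U`
      have hfp : ∀ i, Module.FinitePresentation (Localization.Away (algebraMap Γ(S, V) Γ(X, W) (a i)))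
          (LocalizedModule (Submonoid.powers (algebraMap Γ(S, V) Γ(X, W) (a i))) Γ(F, W)) := by
        intro i
        let b : Γ(X, W) := algebraMap Γ(S, V) Γ(X, W) (a i)
        have hle : X.basicOpen b ≤ f ⁻¹ᵁ U := fun x hx => haU i (by
          have h1 : X.basicOpen b = W ⊓ f ⁻¹ᵁ S.basicOpen (a i) := by
            simp only [b, RingHom.algebraMap_toAlgebra, Scheme.basicOpen_appLE]
          exact (h1 ▸ hx : x ∈ W ⊓ f ⁻¹ᵁ S.basicOpen (a i)).2)
        obtain ⟨r, hr⟩ := QCohLib.exists_isLocalizedModule_res F hW b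
        letI : Module Γ(X, W) Γ(F, X.basicOpen b) :=
          Module.compHom _ (X.presheaf.map (homOfLE (X.basicOpen_le b)).op).hom
        letI : Algebra Γ(X, W) Γ(X, X.basicOpen b) :=
          (X.presheaf.map (homOfLE (X.basicOpen_le b)).op).hom.toAlgebra
        haveI : IsScalarTower Γ(X, W) Γ(X, X.basicOpen b) Γ(F, X.basicOpen b) := .of_algebraMap_smul fun _ _ => rfl
        haveI : IsLocalization.Away b Γ(X, X.basicOpen b) := hW.isLocalization_basicOpen b
        haveI := hr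
        haveI := RGBlowLib.finitePresentation_sections_of_restrict F (f ⁻¹ᵁ U) hfpU (hW.basicOpen b) hle
        let ε : Γ(X, X.basicOpen b) ≃ₐ[Γ(X, W)] Localization.Away b :=
          IsLocalization.algEquiv (Submonoid.powers b) _ _
        letI : Algebra Γ(X, X.basicOpen b) (Localization.Away b) := ε.toAlgHom.toRingHom.toAlgebra
        letI : Module (Localization.Away b) Γ(F, X.basicOpen b) := Module.compHom _ ε.symm.toAlgHom.toRingHom
        haveI : IsScalarTower Γ(X, X.basicOpen b) (Localization.Away b) Γ(F, X.basicOpen b) :=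
          .of_algebraMap_smul fun x m => by
            show ε.symm (ε x) • m = x • m
            rw [AlgEquiv.symm_apply_apply]
        haveI : IsScalarTower Γ(X, W) (Localization.Away b) Γ(F, X.basicOpen b) := .of_algebraMap_smul fun x m => by
          show ε.symm (algebraMap _ (Localization.Away b) x) • m = x • m
          rw [AlgEquiv.commutes, algebraMap_smul]
        haveI : Module.FinitePresentation (Localization.Away b) Γ(F, X.basicOpen b) :=
          RGBlowLib.finitePresentation_of_bijective (E := Γ(X, X.basicOpen b)) ε.bijective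
        exact Module.FinitePresentation.of_equiv
          ((IsLocalizedModule.iso (Submonoid.powers b) r).extendScalarsOfIsLocalization
            (Submonoid.powers b) (Localization.Away b)).symm
      -- flatness at the generic points of the fibres over `U`
      have hfl : ∀ (p : Ideal Γ(S, V)) [p.IsPrime] [(p.map (algebraMap Γ(S, V) Γ(X, W))).IsPrime] (i : Fin n),
          a i ∉ p → FlatCA.FlatAt Γ(S, V) (p.map (algebraMap Γ(S, V) Γ(X, W))) Γ(F, W) := by
        intro p _ _ i hi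
        haveI : IsDomain (p.Fiber Γ(X, W)) := PureLib.isDomain_tensor_field hgi p.ResidueField
        haveI hlo := ContentBlowLib.liesOver_map (S := Γ(X, W)) p
        let Q : PrimeSpectrum Γ(X, W) := ⟨p.map (algebraMap Γ(S, V) Γ(X, W)), inferInstance⟩
        let x : X := hW.fromSpec Q
        have hsp := hV.SpecMap_appLE_fromSpec f hW le_rfl
        have hQp : Spec.map (f.appLE V W le_rfl) Q = ⟨p, inferInstance⟩ := PrimeSpectrum.ext hlo.over.symm
        have hfx : f.base x = hV.fromSpec ⟨p, inferInstance⟩ := by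
          show (hW.fromSpec ≫ f) Q = _
          rw [← hsp, Scheme.Hom.comp_apply, hQp]
        have hxU : f.base x ∈ U := by
          rw [hfx]
          refine haU i ?_
          rw [← Scheme.Hom.mem_preimage, hV.fromSpec_preimage_basicOpen]
          exact hi
        have hgen : closure ({f.asFiber x} : Set (f.fiber (f.base x))) = Set.univ := by
          refine Set.eq_univ_of_forall fun w => specializes_iff_mem_closure.1 ?_
          rw [← (f.fiberι (f.base x)).isEmbedding.isInducing.specializes_iff]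
          have hw : f ((f.fiberι (f.base x)) w) = f.base x := by
            have := Set.mem_range_self (f := (f.fiberι (f.base x))) w
            rwa [Scheme.Hom.range_fiberι, Set.mem_preimage, Set.mem_singleton_iff] at this
          rw [f.fiberι_asFiber]
          have hwW : (f.fiberι (f.base x)) w ∈ W := by
            show f ((f.fiberι (f.base x)) w) ∈ V
            rw [hw, hfx, ← SetLike.mem_coe, ← hV.range_fromSpec]
            exact Set.mem_range_self _
          obtain ⟨Q', hQ'⟩ : (f.fiberι (f.base x)) w ∈ Set.range hW.fromSpec := by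
            rw [hW.range_fromSpec]; exact hwW
          rw [← hQ']
          refine Specializes.map ((PrimeSpectrum.le_iff_specializes Q Q').1 ?_) hW.fromSpec.continuous
          have hQ'p : Spec.map (f.appLE V W le_rfl) Q' = ⟨p, inferInstance⟩ := by
            refine hV.fromSpec.isOpenEmbedding.injective ?_
            rw [← hfx, ← Scheme.Hom.comp_apply, hsp, Scheme.Hom.comp_apply, hQ', hw]
          refine Ideal.map_le_iff_le_comap.2 ?_
          exact le_of_eq (congrArg PrimeSpectrum.asIdeal hQ'p).symm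
        have hxW : x ∈ W := by
          rw [← SetLike.mem_coe, ← hW.range_fromSpec]; exact Set.mem_range_self _
        have h := (FlatLocus.isFlatOverAt_iff f F hV hW le_rfl x hxW).1 (hflU x hxU hgen)
        have hQ : hW.primeIdealOf ⟨x, hxW⟩ = Q :=
          hW.fromSpec.isOpenEmbedding.injective (hW.fromSpec_primeIdealOf _)
        have key : ∀ R' : PrimeSpectrum Γ(X, W), R' = Q →
            Module.Flat Γ(S, V) (LocalizedModule R'.asIdeal.primeCompl Γ(F, W)) →
            FlatCA.FlatAt Γ(S, V) (p.map (algebraMap Γ(S, V) Γ(X, W))) Γ(F, W) := by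
          rintro R' rfl hh
          exact hh
        exact key _ hQ h
      exact exists_ideal (R := Γ(S, V)) (S := Γ(X, W)) (M := Γ(F, W)) hgi a hfp hfl
  exact ⟨𝓙, h1, h2, h3⟩

/-- Over every point of the blown up base, the strict transform is free near the generic point of the fibre. -/
theorem local_free (f : X ⟶ S) [IsAffineHom f] [LocallyOfFinitePresentation f] [Flat f] [GeometricallyIntegral f]
    (F : X.Modules) [Coh.IsQCoh F] {V : S.Opens} (hV : IsAffineOpen V) (𝓙 𝓘 : S.IdealSheafData)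
    (hle : 𝓘.ideal ⟨V, hV⟩ ≤ 𝓙.ideal ⟨V, hV⟩) (hpow : ∃ m : ℕ, 𝓙.ideal ⟨V, hV⟩ ^ m ≤ 𝓘.ideal ⟨V, hV⟩)
    (hT : letI := (f.appLE V (f ⁻¹ᵁ V) le_rfl).hom.toAlgebra
      ∀ (D : Type u) [CommRing D] [Algebra Γ(S, V) D] (c : D), c ∈ nonZeroDivisors D →
        (𝓙.ideal ⟨V, hV⟩).map (algebraMap Γ(S, V) D) = Ideal.span {c} →
        ∀ (q : Ideal D) [q.IsPrime], ∃ g ∉ q,
          ∀ (D' : Type u) [CommRing D'] [Algebra D D'] [Algebra Γ(S, V) D'] [IsScalarTower Γ(S, V) D D']
            [IsLocalization.Away g D']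
            (B' : Type u) [CommRing B'] [Algebra Γ(X, f ⁻¹ᵁ V) B'] [Algebra D' B'] [Algebra Γ(S, V) B']
            [IsScalarTower Γ(S, V) Γ(X, f ⁻¹ᵁ V) B'] [IsScalarTower Γ(S, V) D' B']
            [Algebra.IsPushout Γ(S, V) Γ(X, f ⁻¹ᵁ V) D' B']
            (M' : Type u) [AddCommGroup M'] [Module B' M'] [Module Γ(X, f ⁻¹ᵁ V) M']
            [IsScalarTower Γ(X, f ⁻¹ᵁ V) B' M']
            (φ : Γ(F, f ⁻¹ᵁ V) →ₗ[Γ(X, f ⁻¹ᵁ V)] M'), IsBaseChange B' φ →
            ∀ (q' : Ideal D') [q'.IsPrime],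
              ∃ h : B', h ∉ q'.map (algebraMap D' B') ∧
                Module.Free (Localization.Away h) (LocalizedModule (Submonoid.powers h)
                  (M' ⧸ FlatCA.powTorsion B' (algebraMap D' B' (algebraMap D D' c)) M')) ∧
                Module.Finite (Localization.Away h) (LocalizedModule (Submonoid.powers h)
                  (M' ⧸ FlatCA.powTorsion B' (algebraMap D' B' (algebraMap D D' c)) M')))
    (b : S' ⟶ S) (h𝓘 : BlowUp.IsEffCartierIdeal (𝓘.comap b)) (h𝓙 : BlowUp.IsEffCartierIdeal (𝓙.comap b))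
    (p₁ : X' ⟶ X) (p₂ : X' ⟶ S') (hc : IsPullback p₁ p₂ f b) (G : X'.Modules) [Coh.IsQCoh G]
    (π : (Scheme.Modules.pullback p₁).obj F ⟶ G) (hπ : ∀ O : X'.Opens, IsAffineOpen O → Function.Surjective (π.app O))
    (hker : ∀ (O : X'.affineOpens) (m : ((Scheme.Modules.pullback p₁).obj F).presheaf.obj (Opposite.op O.1)),
      π.app O.1 m = 0 ↔
        BlowUp.KilledByPowerNear ((𝓘.comap f).comap p₁) ((Scheme.Modules.pullback p₁).obj F) O m)
    (s : S') (hsV : b s ∈ V) :
    ∃ (O : X'.Opens) (x' : X'), x' ∈ O ∧ p₂ x' = s ∧ FlatMod.IsFinLocFree (G.restrict O.ι) := by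
  let W : X.Opens := f ⁻¹ᵁ V
  have hW : IsAffineOpen W := hV.preimage f
  letI : Algebra Γ(S, V) Γ(X, W) := (f.appLE V W le_rfl).hom.toAlgebra
  haveI : Algebra.FinitePresentation Γ(S, V) Γ(X, W) := f.finitePresentation_appLE hV hW le_rfl
  haveI : Module.Flat Γ(S, V) Γ(X, W) := f.flat_appLE hV hW le_rfl
  have hgi : FlatCA.GeomIntegralFibres Γ(S, V) Γ(X, W) := geomIntegralFibres_appLE f hV
  obtain ⟨Ω, hΩ, hsΩ, hΩV, ε, c, -, hcn, hεI, hcJ⟩ := RGBlowLib.exists_common_gen h𝓘 h𝓙 (O := b ⁻¹ᵁ V) hsV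
  letI : Algebra Γ(S, V) Γ(S', Ω) := (b.appLE V Ω hΩV).hom.toAlgebra
  have hJD : (𝓙.ideal ⟨V, hV⟩).map (algebraMap Γ(S, V) Γ(S', Ω)) = Ideal.span {c} :=
    (IdealStalkLib.comap_ideal 𝓙 b hV hΩ hΩV).symm.trans hcJ
  have hID : (𝓘.ideal ⟨V, hV⟩).map (algebraMap Γ(S, V) Γ(S', Ω)) = Ideal.span {ε} :=
    (IdealStalkLib.comap_ideal 𝓘 b hV hΩ hΩV).symm.trans hεI
  have hcε : c ∣ ε := by
    rw [← Ideal.mem_span_singleton, ← hJD]
    exact Ideal.map_mono hle (hID.ge (Ideal.mem_span_singleton_self ε))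
  obtain ⟨m, hεc⟩ : ∃ m : ℕ, ε ∣ c ^ m := by
    obtain ⟨m, hm⟩ := hpow
    refine ⟨m, ?_⟩
    have h := Ideal.map_mono (f := algebraMap Γ(S, V) Γ(S', Ω)) hm
    rw [Ideal.map_pow, hJD, hID, Ideal.span_singleton_pow, Ideal.span_singleton_le_iff_mem,
      Ideal.mem_span_singleton] at h
    exact h
  obtain ⟨g, hgq, hg⟩ := hT Γ(S', Ω) c hcn hJD (hΩ.primeIdealOf ⟨s, hsΩ⟩).asIdeal
  let Ω' := S'.basicOpen g
  have hΩ' : IsAffineOpen Ω' := hΩ.basicOpen g
  have hsΩ' : s ∈ Ω' := by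
    have h := hΩ.fromSpec_preimage_basicOpen g
    have h2 : hΩ.primeIdealOf ⟨s, hsΩ⟩ ∈ hΩ.fromSpec ⁻¹ᵁ S'.basicOpen g := by rw [h]; exact hgq
    rw [Scheme.Hom.mem_preimage, hΩ.fromSpec_primeIdealOf ⟨s, hsΩ⟩] at h2
    exact h2
  have e' : Ω' ≤ b ⁻¹ᵁ V := (S'.basicOpen_le g).trans hΩV
  letI : Algebra Γ(S', Ω) Γ(S', Ω') := (S'.presheaf.map (homOfLE (S'.basicOpen_le g)).op).hom.toAlgebra
  letI : Algebra Γ(S, V) Γ(S', Ω') := (b.appLE V Ω' e').hom.toAlgebra
  haveI : IsScalarTower Γ(S, V) Γ(S', Ω) Γ(S', Ω') := .of_algebraMap_eq' (by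
    show (b.appLE V Ω' e').hom = (b.appLE V Ω hΩV ≫ S'.presheaf.map (homOfLE (S'.basicOpen_le g)).op).hom
    rw [Scheme.Hom.appLE_map])
  haveI : IsLocalization.Away g Γ(S', Ω') := hΩ.isLocalization_basicOpen g
  obtain ⟨hW', hpo⟩ := PullbackMod.isPushout_appLE hc hV hW hΩ' le_rfl e'
  let W' := p₁ ⁻¹ᵁ W ⊓ p₂ ⁻¹ᵁ Ω'
  letI : Algebra Γ(X, W) Γ(X', W') := (p₁.appLE W W' inf_le_left).hom.toAlgebra
  letI : Algebra Γ(S', Ω') Γ(X', W') := (p₂.appLE Ω' W' inf_le_right).hom.toAlgebra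
  letI : Algebra Γ(S, V) Γ(X', W') :=
    ((p₁.appLE W W' inf_le_left).hom.comp (f.appLE V W le_rfl).hom).toAlgebra
  haveI : IsScalarTower Γ(S, V) Γ(X, W) Γ(X', W') := .of_algebraMap_eq fun _ => rfl
  haveI : IsScalarTower Γ(S, V) Γ(S', Ω') Γ(X', W') := .of_algebraMap_eq' (by
    show ((f.appLE V W le_rfl) ≫ p₁.appLE W W' inf_le_left).hom =
      ((b.appLE V Ω' e') ≫ p₂.appLE Ω' W' inf_le_right).hom
    simp only [Scheme.Hom.appLE_comp_appLE, hc.w])
  haveI : Algebra.IsPushout Γ(S, V) Γ(S', Ω') Γ(X, W) Γ(X', W') := hpo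
  haveI : Algebra.IsPushout Γ(S, V) Γ(X, W) Γ(S', Ω') Γ(X', W') := Algebra.IsPushout.symm inferInstance
  let P := (Scheme.Modules.pullback p₁).obj F
  letI : Module Γ(X, W) Γ(P, W') := Module.compHom _ (p₁.appLE W W' inf_le_left).hom
  haveI : IsScalarTower Γ(X, W) Γ(X', W') Γ(P, W') := .of_algebraMap_smul fun _ _ => rfl
  let q' := (hΩ'.primeIdealOf ⟨s, hsΩ'⟩).asIdeal
  obtain ⟨h, hhq, hfree, hfin⟩ := hg Γ(S', Ω') Γ(X', W') Γ(P, W') (PullbackMod.pullMapL p₁ F inf_le_left)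
    (PullbackMod.isBaseChange_pullMapL p₁ F hW hW' inf_le_left) q'
  -- the kernel of `π` is the torsion
  let εΩ : Γ(S', Ω') := algebraMap Γ(S', Ω) Γ(S', Ω') ε
  let cB : Γ(X', W') := algebraMap Γ(S', Ω') Γ(X', W') (algebraMap Γ(S', Ω) Γ(S', Ω') c)
  let εB : Γ(X', W') := algebraMap Γ(S', Ω') Γ(X', W') εΩ
  have hE : ((𝓘.comap f).comap p₁).ideal ⟨W', hW'⟩ = Ideal.span {εB} := by
    rw [← Scheme.IdealSheafData.comap_comp, hc.w, Scheme.IdealSheafData.comap_comp,
      IdealStalkLib.comap_ideal (𝓘.comap b) p₂ hΩ' hW' inf_le_right,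
      ← (𝓘.comap b).map_ideal (U := ⟨Ω', hΩ'⟩) (V := ⟨Ω, hΩ⟩) (S'.basicOpen_le g), hεI, Ideal.map_span,
      Set.image_singleton, Ideal.map_span, Set.image_singleton]
    rfl
  let πW := QCohLib.appLinear π W'
  have hk : LinearMap.ker πW = FlatCA.powTorsion Γ(X', W') cB Γ(P, W') := by
    have h1 : LinearMap.ker πW = FlatCA.powTorsion Γ(X', W') εB Γ(P, W') := by
      ext z
      rw [LinearMap.mem_ker, RGBlowLib.mem_powTorsion]
      refine (hker ⟨W', hW'⟩ z).trans (exists_congr fun k => ?_)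
      rw [Scheme.IdealSheafData.ideal_pow, Pi.pow_apply, hE, Ideal.span_singleton_pow]
      refine ⟨fun h => h _ (Ideal.mem_span_singleton_self _), fun h a ha => ?_⟩
      obtain ⟨t, rfl⟩ := Ideal.mem_span_singleton'.1 ha
      rw [mul_smul, h, smul_zero]
    rw [h1]
    refine le_antisymm (RGBlowLib.powTorsion_le_of_dvd (k := m) ?_) (RGBlowLib.powTorsion_le_of_dvd (k := 1) ?_)
    · rw [← map_pow, ← map_pow]
      exact map_dvd _ (map_dvd _ hεc)
    · rw [pow_one]
      exact map_dvd _ (map_dvd _ hcε)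
  let e : (Γ(P, W') ⧸ FlatCA.powTorsion Γ(X', W') cB Γ(P, W')) ≃ₗ[Γ(X', W')] Γ(G, W') :=
    (Submodule.quotEquivOfEq _ _ hk.symm).trans (πW.quotKerEquivOfSurjective (hπ W' hW'))
  -- freeness on `D(h)`
  let O := X'.basicOpen h
  have hO : IsAffineOpen O := hW'.basicOpen h
  obtain ⟨ρ, hρ⟩ := QCohLib.exists_isLocalizedModule_res G hW' h
  letI : Module Γ(X', W') Γ(G, O) := Module.compHom _ (X'.presheaf.map (homOfLE (X'.basicOpen_le h)).op).hom
  letI : Algebra Γ(X', W') Γ(X', O) := (X'.presheaf.map (homOfLE (X'.basicOpen_le h)).op).hom.toAlgebra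
  haveI : IsScalarTower Γ(X', W') Γ(X', O) Γ(G, O) := .of_algebraMap_smul fun _ _ => rfl
  haveI : IsLocalization.Away h Γ(X', O) := hW'.isLocalization_basicOpen h
  haveI := hρ
  let Lh := Localization.Away h
  let N := Γ(P, W') ⧸ FlatCA.powTorsion Γ(X', W') cB Γ(P, W')
  haveI : Module.Free Lh (LocalizedModule (Submonoid.powers h) N) := hfree
  haveI : Module.Finite Lh (LocalizedModule (Submonoid.powers h) N) := hfin
  haveI : Module.Projective Lh (LocalizedModule (Submonoid.powers h) N) := inferInstance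
  let ρ' : N →ₗ[Γ(X', W')] Γ(G, O) := ρ ∘ₗ e.toLinearMap
  haveI : IsLocalizedModule (Submonoid.powers h) ρ' := IsLocalizedModule.of_linearEquiv_right _ _ e
  let ε' : Γ(X', O) ≃ₐ[Γ(X', W')] Lh := IsLocalization.algEquiv (Submonoid.powers h) _ _
  letI : Module Lh Γ(G, O) := Module.compHom _ ε'.symm.toAlgHom.toRingHom
  haveI : IsScalarTower Γ(X', W') Lh Γ(G, O) := .of_algebraMap_smul fun x z => by
    show ε'.symm (algebraMap _ Lh x) • z = x • z
    rw [AlgEquiv.commutes, algebraMap_smul]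
  let eL : LocalizedModule (Submonoid.powers h) N ≃ₗ[Lh] Γ(G, O) :=
    (IsLocalizedModule.iso (Submonoid.powers h) ρ').extendScalarsOfIsLocalization (Submonoid.powers h) Lh
  haveI : Module.Projective Lh Γ(G, O) := Module.Projective.of_equiv eL
  haveI : Module.Finite Lh Γ(G, O) := Module.Finite.equiv eL
  let σ : Lh ≃+* Γ(X', O) := ε'.symm.toRingEquiv
  haveI := RingHomInvPair.of_ringEquiv σ
  haveI := RingHomInvPair.of_ringEquiv σ.symm
  let es : Γ(G, O) ≃ₛₗ[(σ : Lh →+* Γ(X', O))] Γ(G, O) :=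
    { AddEquiv.refl _ with map_smul' := fun _ _ => rfl }
  haveI : Module.Projective Γ(X', O) Γ(G, O) := Module.Projective.of_equiv es
  haveI : Module.Finite Γ(X', O) Γ(G, O) := Module.Finite.of_surjective es.toLinearMap es.surjective
  -- the generic point of the fibre
  haveI : Module.Projective Γ(S, V) Γ(X, W) := ContentBlowLib.projective hgi
  haveI : Module.Projective Γ(S', Ω') Γ(X', W') := Module.Projective.of_equiv
    (Algebra.IsPushout.equiv Γ(S, V) Γ(S', Ω') Γ(X, W) Γ(X', W')).toLinearEquiv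
  haveI : IsDomain (q'.Fiber Γ(X', W')) := PureLib.isDomain_fiber hgi Γ(S', Ω') Γ(X', W') inferInstance q'
  haveI hP : (q'.map (algebraMap Γ(S', Ω') Γ(X', W'))).IsPrime := ContentBlowLib.isPrime_map q'
  haveI hlo := ContentBlowLib.liesOver_map (S := Γ(X', W')) q'
  let Q : PrimeSpectrum Γ(X', W') := ⟨q'.map (algebraMap Γ(S', Ω') Γ(X', W')), hP⟩
  refine ⟨O, hW'.fromSpec Q, ?_, ?_, GenBCLib.isFinLocFree_of_sections G hO⟩
  · rw [← Scheme.Hom.mem_preimage, hW'.fromSpec_preimage_basicOpen]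
    exact hhq
  · have hQq : Spec.map (p₂.appLE Ω' W' inf_le_right) Q = hΩ'.primeIdealOf ⟨s, hsΩ'⟩ :=
      PrimeSpectrum.ext hlo.over.symm
    show (hW'.fromSpec ≫ p₂) Q = s
    rw [← hΩ'.SpecMap_appLE_fromSpec p₂ hW' inf_le_right, Scheme.Hom.comp_apply, hQq,
      hΩ'.fromSpec_primeIdealOf]

/-- **Strict transforms free on an open surjecting onto the base.** -/
theorem exists_free [CompactSpace S] [QuasiSeparatedSpace S] (f : X ⟶ S) [IsAffineHom f]
    [LocallyOfFinitePresentation f] [Flat f] [GeometricallyIntegral f]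
    (U : S.Opens) (hU : IsCompact (U : Set S)) (F : X.Modules) [Coh.IsQCoh F] (hft : CohB1.IsFT F)
    (hfpU : CohB1.IsFP ((Scheme.Modules.pullback (f ⁻¹ᵁ U).ι).obj F))
    (hflU : ∀ x : X, f.base x ∈ U → closure ({f.asFiber x} : Set (f.fiber (f.base x))) = Set.univ →
      FlatMod.IsFlatOverAt f F x) :
    ∃ (𝓘 : S.IdealSheafData) (S' : Scheme.{u}) (b : S' ⟶ S), BlowUp.IsBlowUp b 𝓘 ∧ BlowUp.IsAdmissibleFor U 𝓘 ∧
      ∀ (X' : Scheme.{u}) (p₁ : X' ⟶ X) (p₂ : X' ⟶ S'), IsPullback p₁ p₂ f b →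
      ∀ (G : X'.Modules) (π : (Scheme.Modules.pullback p₁).obj F ⟶ G),
        BlowUp.IsStrictTransform p₁ (𝓘.comap f) F G π →
        ∃ V : X'.Opens, FlatMod.IsFinLocFree ((Scheme.Modules.pullback V.ι).obj G) ∧
          Function.Surjective (V.ι ≫ p₂).base := by
  classical
  obtain ⟨s, hs⟩ := isCompact_univ.elim_finite_subcover (fun V : S.affineOpens => (V.1 : Set S))
    (fun V => V.1.isOpen) fun x _ => by
      obtain ⟨_, ⟨V : S.Opens, hV, rfl⟩, hxV, -⟩ :=
        S.isBasis_affineOpens.exists_subset_of_mem_open (Set.mem_univ x) isOpen_univ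
      exact Set.mem_iUnion.2 ⟨⟨V, hV⟩, hxV⟩
  let Vi : Fin s.card → S.affineOpens := fun i => (s.equivFin.symm i).1
  have hcov : ∀ x : S, ∃ i, x ∈ (Vi i).1 := fun x => by
    obtain ⟨V, hV, hxV⟩ := Set.mem_iUnion₂.1 (hs (Set.mem_univ x))
    exact ⟨s.equivFin ⟨V, hV⟩, by simpa [Vi] using hxV⟩
  choose 𝓙 hadm hpow hT using fun i => exists_chart f U hU F hft hfpU hflU (Vi i).2
  let 𝓘 := ∏ i, 𝓙 i
  have h𝓘 : BlowUp.IsAdmissibleFor U 𝓘 := RGBlowLib.isAdmissibleFor_prod _ _ fun i _ => hadm i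
  obtain ⟨S', b, hb⟩ := S8859.result S 𝓘
  refine ⟨𝓘, S', b, hb, h𝓘, fun X' p₁ p₂ hc G π hst => ?_⟩
  haveI := hst.1
  have hmul : ∀ i, 𝓘 = 𝓙 i * ∏ j ∈ Finset.univ.erase i, 𝓙 j := fun i =>
    (Finset.mul_prod_erase _ _ (Finset.mem_univ i)).symm
  have hcart : ∀ i, BlowUp.IsEffCartierIdeal ((𝓙 i).comap b) := fun i => by
    have h := hb.1
    rw [hmul i, BlowCompLib.comap_mul] at h
    exact BlowCompLib.isEffCartier_of_mul h
  haveI := PullbackMod.isQCoh_pullback p₁ F
  obtain ⟨hG, hsurj⟩ := RGBlowLib.isQCoh_of_kill (BlowUp.exceptional p₁ (𝓘.comap f)) (fun x => by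
    obtain ⟨Ω, hxΩ, ε, -, hε⟩ := hb.1 (p₂ x)
    obtain ⟨_, ⟨O : X'.Opens, hO, rfl⟩, hxO, hOΩ⟩ := X'.isBasis_affineOpens.exists_subset_of_mem_open
      (a := x) (u := ↑(p₂ ⁻¹ᵁ Ω.1)) hxΩ (p₂ ⁻¹ᵁ Ω.1).2
    refine ⟨⟨O, hO⟩, hxO, p₂.appLE Ω.1 O hOΩ ε, ?_⟩
    show ((𝓘.comap f).comap p₁).ideal ⟨O, hO⟩ = _
    rw [← Scheme.IdealSheafData.comap_comp, hc.w, Scheme.IdealSheafData.comap_comp,
      IdealStalkLib.comap_ideal (𝓘.comap b) p₂ Ω.2 hO hOΩ, hε, Ideal.map_span, Set.image_singleton])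
    inferInstance π hst.2
  haveI := hG
  choose i hi using fun t : S' => hcov (b t)
  choose O x' hxO hxs hfree using fun t : S' =>
    local_free f F (Vi (i t)).2 (𝓙 (i t)) 𝓘
      (by rw [hmul (i t), Scheme.IdealSheafData.ideal_mul, Pi.mul_apply]; exact Ideal.mul_le_left)
      (hpow (i t) 𝓘 h𝓘) (hT (i t)) b hb.1 (hcart (i t)) p₁ p₂ hc G π hsurj hst.2 t (hi t)
  let V : X'.Opens := ⨆ t, O t
  have hVt : ∀ t, O t ≤ V := fun t => le_iSup O t
  refine ⟨V, ?_, fun t => ⟨⟨x' t, hVt t (hxO t)⟩, hxs t⟩⟩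
  refine DCohLib.isFinLocFree_iso ((Scheme.Modules.restrictFunctorIsoPullback V.ι).app G)
    (DCohLib.isFinLocFree_of_local fun z => ?_)
  obtain ⟨t, ht⟩ := Opens.mem_iSup.1 z.2
  refine ⟨_, X'.homOfLE (hVt t), inferInstance, ⟨z.1, ht⟩, ?_, ?_⟩
  · apply V.ι.isOpenEmbedding.injective
    rw [← Scheme.Hom.comp_apply, Scheme.homOfLE_ι]
    rfl
  · exact DCohLib.isFinLocFree_iso
      (((Scheme.Modules.restrictFunctorComp (X'.homOfLE (hVt t)) V.ι).symm ≪≫
        Scheme.Modules.restrictFunctorCongr (g := (O t).ι) (Scheme.homOfLE_ι _ _)).app G).symm (hfree t)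

end Groth.Agent.GenFreeBlowLib
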