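import Groth.Agent.ContentBlowLib.Fitt
import Groth.Agent.ContentBlowLib.Basic
import Groth.Agent.RGBlowLib.Affine
import Mathlib

/-!
# Rank pieces of a module flat at the generic points of the fibres
-/

set_option autoImplicit false
set_option linter.style.haveILetI false
set_option linter.unusedSectionVars false
set_option backward.isDefEq.respectTransparency false
set_option maxHeartbeats 1000000

universe u

open TensorProduct

noncomputable section

namespace Groth.Agent.GenFreeBlowLib

variable {R S : Type u} [CommRing R] [CommRing S] [Algebra R S]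

/-- A finitely presented module over a local `R`-algebra, flat over `R`, is free when the maximal ideal is
extended from `R`. -/
theorem free_of_flat {L : Type u} [CommRing L] [IsLocalRing L] [Algebra R L] (p : Ideal R)
    (hp : IsLocalRing.maximalIdeal L = p.map (algebraMap R L)) (X : Type u) [AddCommGroup X] [Module L X]
    [Module R X] [IsScalarTower R L X] [Module.Flat R X] [Module.FinitePresentation L X] : Module.Free L X := by
  apply Module.free_of_maximalIdeal_rTensor_injective
  let 𝔪 := IsLocalRing.maximalIdeal L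
  let ψ : ↥p ⊗[R] X →ₗ[R] ↥𝔪 ⊗[L] X := TensorProduct.lift
    { toFun := fun x => ((TensorProduct.mk L ↥𝔪 X ⟨algebraMap R L x, hp.ge (Ideal.mem_map_of_mem _ x.2)⟩).restrictScalars R)
      map_add' := fun x y => LinearMap.ext fun z => by
        simp only [LinearMap.coe_restrictScalars, TensorProduct.mk_apply, LinearMap.add_apply, ← TensorProduct.add_tmul]
        congr 1
        exact Subtype.ext (map_add _ _ _)
      map_smul' := fun r x => LinearMap.ext fun z => by
        simp only [LinearMap.coe_restrictScalars, TensorProduct.mk_apply, LinearMap.smul_apply, RingHom.id_apply,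
          TensorProduct.smul_tmul']
        congr 1
        refine Subtype.ext ?_
        show algebraMap R L (r • (x : R)) = r • algebraMap R L (x : R)
        rw [smul_eq_mul, map_mul, Algebra.smul_def] }
  have hψs : ∀ (w : L) (hw : w ∈ 𝔪) (x : X), (⟨w, hw⟩ : ↥𝔪) ⊗ₜ[L] x ∈ LinearMap.range ψ := by
    intro w hw
    have hw' : w ∈ Ideal.span (algebraMap R L '' (p : Set R)) := hp.le hw
    induction hw' using Submodule.span_induction with
    | mem w hw' =>
      obtain ⟨r, hr, rfl⟩ := hw'
      exact fun x => ⟨(⟨r, hr⟩ : ↥p) ⊗ₜ x, rfl⟩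
    | zero =>
      intro x
      rw [show (⟨0, hw⟩ : ↥𝔪) = 0 from rfl, zero_tmul]
      exact zero_mem _
    | add u v hu hv h1 h2 =>
      intro x
      rw [show (⟨u + v, hw⟩ : ↥𝔪) = (⟨u, hp.ge hu⟩ : ↥𝔪) + ⟨v, hp.ge hv⟩ from rfl, add_tmul]
      exact add_mem (h1 (hp.ge hu) x) (h2 (hp.ge hv) x)
    | smul l u hu h1 =>
      intro x
      rw [show (⟨l • u, hw⟩ : ↥𝔪) = l • (⟨u, hp.ge hu⟩ : ↥𝔪) from rfl, smul_tmul]
      exact h1 (hp.ge hu) (l • x)
  have hψ : Function.Surjective ψ := by
    rw [← LinearMap.range_eq_top, eq_top_iff]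
    intro z _
    induction z using TensorProduct.induction_on with
    | zero => exact zero_mem _
    | tmul w x => exact hψs w.1 w.2 x
    | add y z hy hz => exact add_mem (hy trivial) (hz trivial)
  have hinj : Function.Injective (fun z => TensorProduct.lid L X ((𝔪.subtype.rTensor X) (ψ z))) := by
    have h : ∀ z, (TensorProduct.lid L X).toLinearMap ((𝔪.subtype.rTensor X) (ψ z)) =
        TensorProduct.lid R X ((p.subtype.rTensor X) z) := by
      intro z
      induction z using TensorProduct.induction_on with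
      | zero => simp
      | tmul a x => simp [ψ]
      | add y z hy hz => simp only [map_add, hy, hz]
    intro x y hxy
    exact Module.Flat.rTensor_preserves_injective_linearMap p.subtype Subtype.val_injective
      ((TensorProduct.lid R X).injective ((h x).symm.trans (hxy.trans (h y))))
  intro x y hxy
  obtain ⟨x, rfl⟩ := hψ x
  obtain ⟨y, rfl⟩ := hψ y
  exact congrArg ψ (hinj (congrArg (TensorProduct.lid L X) hxy))

variable (S) in
/-- The module has rank `r` at the generic point of the fibre at `p`, read on Fitting ideals. -/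
def HasRank (M : Type u) [AddCommGroup M] [Module S M] (p : Ideal R) (r : ℕ) : Prop :=
  ¬ Fitt.ideal S M r ≤ p.map (algebraMap R S) ∧
    ∀ j, j < r → ∀ y ∈ Fitt.ideal S M j, ∃ t ∉ p.map (algebraMap R S), t * y = 0

theorem hasRank_unique {M : Type u} [AddCommGroup M] [Module S M] {p : Ideal R}
    [(p.map (algebraMap R S)).IsPrime] {r r' : ℕ} (h : HasRank S M p r) (h' : HasRank S M p r') : r = r' := by
  have key : ∀ a b : ℕ, HasRank S M p a → HasRank S M p b → ¬ a < b := by
    intro a b ha hb hab
    refine ha.1 fun y hy => ?_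
    obtain ⟨t, ht, hty⟩ := hb.2 a hab y hy
    exact ((Ideal.IsPrime.mem_or_mem (inferInstance : (p.map (algebraMap R S)).IsPrime))
      (hty ▸ Submodule.zero_mem _)).resolve_left ht
  exact le_antisymm (not_lt.1 (key r' r h' h)) (not_lt.1 (key r r' h h'))

theorem hasRank_of_flatAt {M : Type u} [AddCommGroup M] [Module S M] [Module R M] [IsScalarTower R S M]
    [Module.FinitePresentation S M] (p : Ideal R) [(p.map (algebraMap R S)).IsPrime]
    (h : FlatCA.FlatAt R (p.map (algebraMap R S)) M) : ∃ r, HasRank S M p r := by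
  let P := p.map (algebraMap R S)
  haveI : P.IsPrime := inferInstanceAs (p.map (algebraMap R S)).IsPrime
  let L := Localization.AtPrime P
  let X := LocalizedModule P.primeCompl M
  haveI : Module.Flat R X := h
  haveI : Module.FinitePresentation L X :=
    Module.FinitePresentation.of_equiv
      (IsLocalizedModule.isBaseChange P.primeCompl L (LocalizedModule.mkLinearMap P.primeCompl M)).equiv
  have hmax : IsLocalRing.maximalIdeal L = p.map (algebraMap R L) := by
    rw [← Localization.AtPrime.map_eq_maximalIdeal, IsScalarTower.algebraMap_eq R S L, ← Ideal.map_map]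
  haveI : Module.Free L X := free_of_flat p hmax X
  let r := Module.finrank L X
  let b := Module.finBasis L X
  refine ⟨r, FittLib.not_le_of_span_localized P P.primeCompl (Set.disjoint_left.2 fun x hx => hx) b b.span_eq,
    fun j hj y hy => ?_⟩
  have h1 : (Fitt.ideal S M j).map (algebraMap S L) = ⊥ := by
    rw [← FittLib.ideal_baseChange, ← FittLib.ideal_eq_of_equiv
      (IsLocalizedModule.isBaseChange P.primeCompl L (LocalizedModule.mkLinearMap P.primeCompl M)).equiv.symm j]
    exact FittTrLib.ideal_eq_bot_of_free rfl hj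
  rw [Ideal.map_eq_bot_iff_le_ker] at h1
  obtain ⟨⟨t, ht⟩, htx⟩ := (IsLocalization.map_eq_zero_iff P.primeCompl L y).mp (h1 hy)
  exact ⟨t, ht, htx⟩

/-- An element outside the extension of `p` has a coordinate outside `p`. -/
theorem exists_coord (s : S →ₗ[R] S →₀ R) (hs : ∀ b, Finsupp.linearCombination R id (s b) = b) (p : Ideal R)
    (b : S) (hb : b ∉ p.map (algebraMap R S)) : ∃ x, s b x ∉ p := by
  by_contra h
  push Not at h
  refine hb ?_
  rw [← hs b, Finsupp.linearCombination_apply, Finsupp.sum]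
  refine sum_mem fun x _ => ?_
  rw [Algebra.smul_def]
  exact Ideal.mul_mem_right _ _ (Ideal.mem_map_of_mem _ (h x))

theorem coord_mem (s : S →ₗ[R] S →₀ R) (p : Ideal R) (b : S) (hb : b ∈ p.map (algebraMap R S)) (x : S) :
    s b x ∈ p := by
  rw [← Submodule.restrictScalars_mem R, ← Ideal.smul_top_eq_map] at hb
  refine Submodule.smul_induction_on hb (fun a ha m _ => ?_) fun u v hu hv => ?_
  · rw [map_smul, Finsupp.smul_apply, smul_eq_mul]
    exact Ideal.mul_mem_right _ _ ha
  · rw [map_add, Finsupp.add_apply]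
    exact add_mem hu hv

/-- Near a prime the rank is constant. -/
theorem exists_nhd (s : S →ₗ[R] S →₀ R) (hs : ∀ b, Finsupp.linearCombination R id (s b) = b)
    (hprime : ∀ (p : Ideal R) [p.IsPrime], (p.map (algebraMap R S)).IsPrime)
    {M : Type u} [AddCommGroup M] [Module S M] [Module.FinitePresentation S M] (p : Ideal R) [p.IsPrime] (r : ℕ)
    (h : HasRank S M p r) : ∃ f ∉ p, ∀ (p' : Ideal R) [p'.IsPrime], f ∉ p' → HasRank S M p' r := by
  classical
  haveI := hprime p
  obtain ⟨g, hg, hgP⟩ := SetLike.not_le_iff_exists.1 h.1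
  choose G hG using fun j : Fin r => GenRankLib.fitt_fg (B := S) M j
  have hk : ∀ j : Fin r, ∀ y ∈ G j, ∃ t ∉ p.map (algebraMap R S), t * y = 0 := fun j y hy =>
    h.2 j j.2 y (hG j ▸ Ideal.subset_span hy)
  choose t htP htk using hk
  let τ : S := ∏ j : Fin r, ∏ y ∈ (G j).attach, t j y.1 y.2
  have hτ : τ * g ∉ p.map (algebraMap R S) := fun hm => by
    rcases Ideal.IsPrime.mem_or_mem ‹_› hm with hm | hm
    · obtain ⟨j, -, hj⟩ := (Ideal.IsPrime.prod_mem_iff ).1 hm
      obtain ⟨y, -, hy⟩ := (Ideal.IsPrime.prod_mem_iff ).1 hj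
      exact htP j y.1 y.2 hy
    · exact hgP hm
  obtain ⟨x, hx⟩ := exists_coord s hs p _ hτ
  refine ⟨s (τ * g) x, hx, fun p' _ hp' => ?_⟩
  haveI := hprime p'
  have hnot : τ * g ∉ p'.map (algebraMap R S) := fun hm => hp' (coord_mem s p' _ hm x)
  refine ⟨fun hle => hnot (Ideal.mul_mem_left _ _ (hle hg)), fun j hj y hy => ⟨τ, fun hm =>
    hnot (Ideal.mul_mem_right _ _ hm), ?_⟩⟩
  have hy' : y ∈ Ideal.span (G ⟨j, hj⟩ : Set S) := (hG ⟨j, hj⟩).ge hy
  clear hy
  induction hy' using Submodule.span_induction with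
  | mem z hz =>
    have hd : t ⟨j, hj⟩ z hz ∣ τ :=
      (Finset.dvd_prod_of_mem (fun y : {y // y ∈ G ⟨j, hj⟩} => t ⟨j, hj⟩ y.1 y.2)
        (Finset.mem_attach _ (⟨z, hz⟩ : {y // y ∈ G ⟨j, hj⟩}))).trans
        (Finset.dvd_prod_of_mem (fun i : Fin r => ∏ y ∈ (G i).attach, t i y.1 y.2)
          (Finset.mem_univ (⟨j, hj⟩ : Fin r)))
    obtain ⟨d, hd⟩ := hd
    rw [hd, mul_right_comm, htk, zero_mul]
  | zero => exact mul_zero _
  | add u v _ _ hu hv => rw [mul_add, hu, hv, add_zero]
  | smul c u _ hu => rw [smul_eq_mul, mul_left_comm, hu, mul_zero]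

/-- **Rank pieces.** Finitely many basic opens with constant rank, with the same radical as `a`. -/
theorem exists_pieces (s : S →ₗ[R] S →₀ R) (hs : ∀ b, Finsupp.linearCombination R id (s b) = b)
    (hprime : ∀ (p : Ideal R) [p.IsPrime], (p.map (algebraMap R S)).IsPrime)
    {M : Type u} [AddCommGroup M] [Module S M] [Module R M] [IsScalarTower R S M] [Module.FinitePresentation S M]
    {n : ℕ} (a : Fin n → R)
    (hfl : ∀ (p : Ideal R) [p.IsPrime] [(p.map (algebraMap R S)).IsPrime] (i : Fin n), a i ∉ p →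
      FlatCA.FlatAt R (p.map (algebraMap R S)) M) :
    ∃ (m : ℕ) (f : Fin m → R) (r : Fin m → ℕ),
      (Ideal.span (Set.range f)).radical = (Ideal.span (Set.range a)).radical ∧
      ∀ (k : Fin m) (p : Ideal R) [p.IsPrime], f k ∉ p → HasRank S M p (r k) := by
  classical
  let A := Ideal.span (Set.range a)
  let 𝔉 : Set R := {f | f ∈ A ∧ ∃ r, ∀ (p : Ideal R) [p.IsPrime], f ∉ p → HasRank S M p r}
  have hle : A ≤ (Ideal.span 𝔉).radical := by
    rw [Ideal.radical_eq_sInf]
    refine le_sInf fun p hp => ?_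
    obtain ⟨hp𝔉, hp⟩ := hp
    by_contra hA
    obtain ⟨i, hi⟩ : ∃ i, a i ∉ p := by
      by_contra h
      push Not at h
      exact hA (Ideal.span_le.2 (by rintro _ ⟨i, rfl⟩; exact h i))
    haveI := hp
    haveI := hprime p
    obtain ⟨r, hr⟩ := hasRank_of_flatAt p (hfl p i hi)
    obtain ⟨f, hf, hf'⟩ := exists_nhd s hs hprime p r hr
    refine (fun h => h.elim (hi ·) (hf ·))
      (hp.mem_or_mem (hp𝔉 (Ideal.subset_span ⟨Ideal.mul_mem_right f _ (Ideal.subset_span ⟨i, rfl⟩), r,
        fun p' _ h => hf' p' fun hm => h (Ideal.mul_mem_left _ _ hm)⟩ : a i * f ∈ Ideal.span 𝔉)))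
  choose N hN using fun i => hle (Ideal.subset_span ⟨i, rfl⟩ : a i ∈ A)
  choose G hG hNG using fun i => Submodule.mem_span_finite_of_mem_span (hN i)
  let U := Finset.univ.biUnion G
  have hU : ∀ z ∈ U, z ∈ 𝔉 := fun z hz => by
    obtain ⟨i, -, hi⟩ := Finset.mem_biUnion.1 hz
    exact hG i hi
  choose rk hrk using fun k : Fin U.card => (hU _ (U.equivFin.symm k).2).2
  refine ⟨U.card, fun k => (U.equivFin.symm k).1, rk, le_antisymm (Ideal.radical_mono (Ideal.span_le.2 ?_)) ?_,
    fun k p _ h => hrk k p h⟩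
  · rintro _ ⟨k, rfl⟩
    exact (hU _ (U.equivFin.symm k).2).1
  · rw [Ideal.radical_le_radical_iff, Ideal.span_le]
    rintro _ ⟨i, rfl⟩
    refine ⟨N i, Ideal.span_le.2 (fun z hz => ?_) (hNG i)⟩
    exact Ideal.subset_span ⟨U.equivFin ⟨z, Finset.mem_biUnion.2 ⟨i, Finset.mem_univ i, hz⟩⟩, by simp⟩

end Groth.Agent.GenFreeBlowLib
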